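import Cfsg.Agent.H0.WSz8.D
set_option maxRecDepth 100000
set_option Elab.async false
set_option linter.unusedSectionVars false
namespace H0.WSz8
open H0 BN 
universe u
theorem stem {G : Type u} [Group G] [Finite G] (P : Pres G 9 H0.MSz8.B) (hG : commutator G = ⊤) : StemTo G (Z3 1 2 2) :=
  stemTo3 P hG R J [0, 0, 0, 0, 0, 0, 0, 0, 0, 0, 0, 0, 0, 0, 0, 0, 0, 0, 0, 0, 0, 0, 0, 0, 0, 0, 0, 0, 0, 0, 0, 0, 0, 0, 0, 0] [0, 0, 0, 2, 0, 3, 0, 1, 0, 1, 0, 3, 3, 0, 0, 1, 0, 0, 0, 0, 0, 0, 0, 0, 0, 0, 0, 0, 0, 0, 0, 0, 0, 0, 0, 0] [0, 0, 0, 2, 0, 2, 0, 1, 0, 1, 0, 1, 3, 1, 0, 0, 0, 0, 0, 0, 0, 0, 0, 0, 0, 0, 0, 0, 0, 0, 0, 0, 0, 0, 0, 0] (all_take_done (all_take_step (all_take_zero _ E) (pw_done R (pw_step R (pw_zero R ((E.drop 0).take 75)) c1))) (by decide +kernel)) c0 (by decide +kernel) (by decide +kernel)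
end H0.WSz8
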